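import Groth.Prelude.Def_LefPen
import Mathlib

/-!
Squarefree forms over a perfect infinite field form a nonempty Zariski open set.
-/

set_option autoImplicit false
set_option linter.style.haveILetI false

universe u

open MvPolynomial

namespace Groth.Agent.SqfreeForms

variable {k : Type u} [Field k] [IsAlgClosed k] {σ : Type} [Fintype σ]

omit [Fintype σ] in
/-- A nonconstant polynomial with vanishing partial derivatives over a perfect field is a proper power. -/
theorem not_irreducible_of_pderiv_eq_zero {G : MvPolynomial σ k} (hG : ∀ i, pderiv i G = 0) :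
    ¬ Irreducible G := by
  classical
  intro hirr
  have hsupp : ∀ m ∈ G.support, ∀ i, ((m i : ℕ) : k) = 0 := by
    intro m hm i
    rcases Nat.eq_zero_or_pos (m i) with h0 | h0
    · rw [h0, Nat.cast_zero]
    · have h1 := congrArg (coeff (m - Finsupp.single i 1)) (hG i)
      have hadd : m - Finsupp.single i 1 + Finsupp.single i 1 = m :=
        tsub_add_cancel_of_le (Finsupp.single_le_iff.mpr h0)
      rw [coeff_pderiv, coeff_zero, hadd] at h1
      have h2 : (((m - Finsupp.single i 1 : σ →₀ ℕ) i : ℕ) : k) + 1 = ((m i : ℕ) : k) := by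
        rw [Finsupp.tsub_apply, Finsupp.single_eq_same, Nat.cast_sub h0]
        simp
      rw [h2] at h1
      rcases mul_eq_zero.mp h1 with h | h
      · exact absurd h (mem_support_iff.mp hm)
      · exact h
  rcases CharP.exists k with ⟨p, hp⟩
  rcases CharP.char_is_prime_or_zero k p with hpp | rfl
  · haveI : Fact p.Prime := ⟨hpp⟩
    haveI : CharP (MvPolynomial σ k) p := inferInstance
    let H : MvPolynomial σ k := ∑ m ∈ G.support,
      monomial (m.mapRange (fun a => a / p) (Nat.zero_div p)) ((frobeniusEquiv k p).symm (coeff m G))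
    have hH : H ^ p = G := by
      rw [show H ^ p = ∑ m ∈ G.support,
        (monomial (m.mapRange (fun a => a / p) (Nat.zero_div p)) ((frobeniusEquiv k p).symm (coeff m G))) ^ p from
          sum_pow_char p _ _]
      conv_rhs => rw [G.as_sum]
      refine Finset.sum_congr rfl fun m hm => ?_
      rw [monomial_pow, frobeniusEquiv_symm_pow_p]
      refine congrArg (fun e => monomial e (coeff m G)) ?_
      ext i
      rw [Finsupp.smul_apply, Finsupp.mapRange_apply, smul_eq_mul, Nat.mul_div_cancel']
      exact (CharP.cast_eq_zero_iff k p _).mp (hsupp m hm i)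
    exact not_irreducible_pow hpp.ne_one (hH ▸ hirr)
  · haveI := CharP.charP_to_charZero k
    have h0 : ∀ m ∈ G.support, m = 0 := fun m hm => Finsupp.ext fun i => by
      simpa using hsupp m hm i
    have : G = C (coeff 0 G) := by
      ext m
      rw [coeff_C]
      split
      · next h => rw [h]
      · next h =>
        by_contra hne
        exact h (h0 m (mem_support_iff.mpr hne)).symm
    rcases eq_or_ne (coeff 0 G) 0 with h | h
    · exact hirr.ne_zero (by rw [this, h, map_zero])
    · exact hirr.not_isUnit (this ▸ (isUnit_iff_ne_zero.mpr h).map C)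

/-- For squarefree `F` some combination of the partial derivatives is prime to `F`. -/
theorem exists_comb_isRelPrime {F : MvPolynomial σ k} (hF : Squarefree F) (hF0 : F ≠ 0) :
    ∃ c : σ → k, IsRelPrime F (∑ i, C (c i) * pderiv i F) := by
  classical
  let P : Finset (MvPolynomial σ k) := (UniqueFactorizationMonoid.factors F).toFinset
  let V : P → Submodule k (σ → k) := fun G =>
    { carrier := {c | (G : MvPolynomial σ k) ∣ ∑ i, C (c i) * pderiv i F}
      zero_mem' := by simp
      add_mem' := fun {a b} ha hb => by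
        simp only [Set.mem_setOf_eq, Pi.add_apply, map_add, add_mul, Finset.sum_add_distrib] at *
        exact dvd_add ha hb
      smul_mem' := fun r a ha => by
        simp only [Set.mem_setOf_eq, Pi.smul_apply, smul_eq_mul, map_mul, mul_assoc, ← Finset.mul_sum] at *
        exact dvd_mul_of_dvd_right ha _ }
  have hV : ∀ G, V G ≠ ⊤ := by
    rintro ⟨G, hG⟩ htop
    rw [Multiset.mem_toFinset] at hG
    have hirr := UniqueFactorizationMonoid.irreducible_of_factor G hG
    obtain ⟨H, hH⟩ := UniqueFactorizationMonoid.dvd_of_mem_factors hG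
    refine not_irreducible_of_pderiv_eq_zero (fun i => ?_) hirr
    have h1 : G ∣ pderiv i F := by
      have h2 : (Pi.single i (1 : k) : σ → k) ∈ V ⟨G, Multiset.mem_toFinset.mpr hG⟩ := htop ▸ Submodule.mem_top
      change G ∣ ∑ j, C ((Pi.single i (1 : k) : σ → k) j) * pderiv j F at h2
      rwa [Finset.sum_eq_single i (fun j _ hj => by simp [Pi.single_eq_of_ne hj]) (by simp),
        Pi.single_eq_same, map_one, one_mul] at h2
    rw [hH, pderiv_mul] at h1
    have h3 : G ∣ pderiv i G * H := (dvd_add_left (dvd_mul_right G _)).mp h1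
    rcases hirr.prime.dvd_or_dvd h3 with h | h
    · by_contra hne
      have hle := totalDegree_mul_of_isDomain (f := G) (g := (Classical.choose h)) hirr.ne_zero (fun e => hne (by
        rw [Classical.choose_spec h, e, mul_zero]))
      rw [← Classical.choose_spec h] at hle
      have hlt : (pderiv i G).totalDegree < G.totalDegree := by
        obtain ⟨m, hm, hmd⟩ := Finset.exists_mem_eq_sup (pderiv i G).support
          (Finset.nonempty_of_ne_empty fun e => hne (support_eq_empty.mp e)) fun s => s.sum fun _ e => e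
        have hm' : m + Finsupp.single i 1 ∈ G.support := by
          rw [mem_support_iff] at hm ⊢
          rw [coeff_pderiv] at hm
          exact left_ne_zero_of_mul hm
        rw [totalDegree, hmd]
        refine lt_of_lt_of_le ?_ (le_totalDegree hm')
        rw [Finsupp.sum_add_index' (fun _ => rfl) (fun _ _ _ => rfl), Finsupp.sum_single_index rfl]
        exact Nat.lt_succ_self _
      omega
    · exfalso
      obtain ⟨K, rfl⟩ := h
      exact hirr.not_isUnit (hF G (by rw [hH, ← mul_assoc]; exact dvd_mul_right _ _))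
  obtain ⟨c, hc⟩ := Submodule.exists_forall_notMem_of_forall_ne_top V hV
  refine ⟨c, WfDvdMonoid.isRelPrime_of_no_irreducible_factors (fun h => hF0 h.1) fun G hG hGF hGH => ?_⟩
  obtain ⟨G', hG', hass⟩ := UniqueFactorizationMonoid.exists_mem_factors_of_dvd hF0 hG hGF
  exact hc ⟨G', Multiset.mem_toFinset.mpr hG'⟩ (hass.symm.dvd.trans hGH)

theorem totalDegree_comb_le {F : MvPolynomial σ k} {d : ℕ} (hF : F.IsHomogeneous d) (c : σ → k) :
    (∑ i, C (c i) * pderiv i F).totalDegree ≤ d - 1 := by
  refine (totalDegree_finsetSum _ _).trans (Finset.sup_le fun i _ => ?_)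
  refine (totalDegree_mul _ _).trans ?_
  rw [totalDegree_C, zero_add]
  exact hF.pderiv.totalDegree_le

/-- Two polynomials related by a syzygy of low degree. -/
theorem squarefree_iff_injective {F : MvPolynomial σ k} {d : ℕ} (hd : 2 ≤ d) (hF : F.IsHomogeneous d) :
    Squarefree F ↔ ∃ c : σ → k, ∀ A B : MvPolynomial σ k, A.totalDegree ≤ d - 2 → B.totalDegree ≤ d - 1 →
      A * F + B * (∑ i, C (c i) * pderiv i F) = 0 → A = 0 ∧ B = 0 := by
  constructor
  · intro h
    have hF0 : F ≠ 0 := h.ne_zero
    obtain ⟨c, hc⟩ := exists_comb_isRelPrime h hF0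
    refine ⟨c, fun A B _ hB e => ?_⟩
    have hB0 : B = 0 := by
      by_contra hne
      have hdvd : F ∣ B := hc.dvd_of_dvd_mul_right ⟨-A, by linear_combination e⟩
      obtain ⟨Q, rfl⟩ := hdvd
      rw [totalDegree_mul_of_isDomain hF0 (right_ne_zero_of_mul hne), hF.totalDegree hF0] at hB
      omega
    rw [hB0, zero_mul, add_zero] at e
    exact ⟨(mul_eq_zero.mp e).resolve_right hF0, hB0⟩
  · rintro ⟨c, hc⟩
    have hF0 : F ≠ 0 := fun h => one_ne_zero (hc 1 0 (by simp) (by simp) (by simp [h])).1
    intro G hG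
    by_contra hu
    obtain ⟨K, hK⟩ := hG
    have hG0 : G ≠ 0 := fun h => hF0 (by rw [hK, h, zero_mul, zero_mul])
    have hK0 : K ≠ 0 := fun h => hF0 (by rw [hK, h, mul_zero])
    have hGd : 1 ≤ G.totalDegree := by
      by_contra hlt
      have := totalDegree_eq_zero_iff_eq_C.mp (by omega : G.totalDegree = 0)
      refine hu ?_
      rw [this]
      exact (isUnit_iff_ne_zero.mpr fun h => hG0 (by rw [this, h, map_zero])).map C
    let M : MvPolynomial σ k := ∑ i, C (c i) * (2 * pderiv i G * K + G * pderiv i K)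
    have hH : ∑ i, C (c i) * pderiv i F = G * M := by
      rw [Finset.mul_sum]
      refine Finset.sum_congr rfl fun i _ => ?_
      rw [hK, pderiv_mul, pderiv_mul]
      ring
    have hdeg : d = G.totalDegree + G.totalDegree + K.totalDegree := by
      rw [← hF.totalDegree hF0, hK, totalDegree_mul_of_isDomain (mul_ne_zero hG0 hG0) hK0,
        totalDegree_mul_of_isDomain hG0 hG0]
    by_cases hM : M = 0
    · exact one_ne_zero (hc 0 1 (by simp) (by simp) (by rw [hH, hM]; ring)).2
    · have hMd : M.totalDegree ≤ d - 2 := by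
        have h1 := totalDegree_comb_le hF c
        rw [hH, totalDegree_mul_of_isDomain hG0 hM] at h1
        omega
      refine hM (hc M (-(G * K)) hMd ?_ ?_).1
      · rw [totalDegree_neg, totalDegree_mul_of_isDomain hG0 hK0]
        omega
      · rw [hH, hK]; ring

/-- Squarefree forms are Zariski open. -/
theorem isZOpen_squarefree (n d : ℕ) (hd : 2 ≤ d) :
    LefPen.IsZOpen k {F : LefPen.Form n k d | Squarefree F.1} := by
  classical
  intro F hF
  obtain ⟨c, hc⟩ := (squarefree_iff_injective hd ((mem_homogeneousSubmodule d _).mp F.2)).mp hF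
  let U := restrictTotalDegree (Fin (n + 1)) k (d - 2)
  let U' := restrictTotalDegree (Fin (n + 1)) k (d - 1)
  let T : LefPen.Form n k d →ₗ[k] (U × U') →ₗ[k] MvPolynomial (Fin (n + 1)) k :=
    LinearMap.mk₂ k (fun G p => (p.1 : MvPolynomial (Fin (n + 1)) k) * G.1 +
        (p.2 : MvPolynomial (Fin (n + 1)) k) * ∑ i, C (c i) * pderiv i G.1)
      (fun G G' p => by simp only [Submodule.coe_add, map_add, mul_add, Finset.sum_add_distrib]; ring)
      (fun r G p => by
        simp only [Submodule.coe_smul, Derivation.map_smul, mul_smul_comm, ← Finset.smul_sum, smul_add])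
      (fun G p p' => by simp only [Prod.fst_add, Prod.snd_add, Submodule.coe_add]; ring)
      (fun r G p => by simp only [Prod.smul_fst, Prod.smul_snd, Submodule.coe_smul, smul_mul_assoc, smul_add])
  have hTi : LinearMap.ker (T F) = ⊥ := by
    rw [LinearMap.ker_eq_bot']
    intro p hp
    obtain ⟨h1, h2⟩ := hc p.1.1 p.2.1 ((mem_restrictTotalDegree _ _ _).mp p.1.2)
      ((mem_restrictTotalDegree _ _ _).mp p.2.2) hp
    exact Prod.ext (Subtype.ext h1) (Subtype.ext h2)
  obtain ⟨P, hP⟩ := (T F).exists_leftInverse_of_injective hTi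
  let b := Module.finBasis k (U × U')
  refine ⟨fun G => LinearMap.det (P ∘ₗ T G), ?_, ?_, fun G hG => ?_⟩
  · have e : (fun G => LinearMap.det (P ∘ₗ T G)) = fun G => (LinearMap.toMatrix b b (P ∘ₗ T G)).det :=
      funext fun G => (LinearMap.det_toMatrix b _).symm
    rw [LefPen.IsPolyFun, e]
    have e2 : (fun G => (LinearMap.toMatrix b b (P ∘ₗ T G)).det) =
        ∑ s : Equiv.Perm (Fin (Module.finrank k (U × U'))), (Equiv.Perm.sign s : ℤ) •
          ∏ i, fun G : LefPen.Form n k d => LinearMap.toMatrix b b (P ∘ₗ T G) (s i) i := by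
      funext G
      rw [Matrix.det_apply, Finset.sum_apply]
      refine Finset.sum_congr rfl fun s _ => ?_
      simp [Units.smul_def, Finset.prod_apply]
    rw [e2]
    refine Subalgebra.sum_mem _ fun s _ => Subalgebra.zsmul_mem _ (Subalgebra.prod_mem _ fun i _ =>
      Algebra.subset_adjoin (Set.mem_range.mpr ⟨?_, ?_⟩)) _
    · exact (LinearMap.proj i).comp ((LinearMap.proj (s i)).comp
        ((LinearMap.toMatrix b b).toLinearMap.comp ((LinearMap.llcomp k _ _ _ P).comp T)))
    · rfl
  · change LinearMap.det (P ∘ₗ T F) ≠ 0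
    rw [hP, LinearMap.det_id]
    exact one_ne_zero
  · refine (squarefree_iff_injective hd ((mem_homogeneousSubmodule d _).mp G.2)).mpr ⟨c, fun A B hA hB e => ?_⟩
    have hu : Function.Injective (P ∘ₗ T G) :=
      (LinearMap.equivOfDetNeZero (P ∘ₗ T G) hG).injective
    have h0 : (⟨⟨A, (mem_restrictTotalDegree _ _ _).mpr hA⟩, ⟨B, (mem_restrictTotalDegree _ _ _).mpr hB⟩⟩ : U × U') = 0 := by
      refine hu ?_
      rw [map_zero]
      change P (A * G.1 + B * ∑ i, C (c i) * pderiv i G.1) = 0
      rw [e, map_zero]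
    exact ⟨congrArg (fun p => (p.1 : MvPolynomial (Fin (n + 1)) k)) h0,
      congrArg (fun p => (p.2 : MvPolynomial (Fin (n + 1)) k)) h0⟩

theorem irreducible_linear {F : MvPolynomial σ k} (hF : F.IsHomogeneous 1) (h0 : F ≠ 0) : Irreducible F := by
  refine ⟨fun hu => ?_, fun a b hab => ?_⟩
  · obtain ⟨g, hg⟩ := isUnit_iff_exists_inv.mp hu
    have h1 := totalDegree_mul_of_isDomain h0 (show g ≠ 0 from fun h => by simp [h] at hg)
    rw [hg, totalDegree_one, hF.totalDegree h0] at h1
    omega
  · have ha : a ≠ 0 := fun h => h0 (by rw [hab, h, zero_mul])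
    have hb : b ≠ 0 := fun h => h0 (by rw [hab, h, mul_zero])
    have h1 := hF.totalDegree h0
    rw [hab, totalDegree_mul_of_isDomain ha hb] at h1
    rcases Nat.eq_zero_or_pos a.totalDegree with h | h
    · left
      rw [totalDegree_eq_zero_iff_eq_C.mp h]
      exact (isUnit_iff_ne_zero.mpr fun e => ha (by rw [totalDegree_eq_zero_iff_eq_C.mp h, e, map_zero])).map C
    · right
      have h2 : b.totalDegree = 0 := by omega
      rw [totalDegree_eq_zero_iff_eq_C.mp h2]
      exact (isUnit_iff_ne_zero.mpr fun e => hb (by rw [totalDegree_eq_zero_iff_eq_C.mp h2, e, map_zero])).map C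

/-- There are squarefree forms of every degree in at least two variables. -/
theorem exists_squarefree (n d : ℕ) (hn : 1 ≤ n) :
    ({F : LefPen.Form n k d | Squarefree F.1}).Nonempty := by
  classical
  haveI : Infinite k := IsAlgClosed.instInfinite
  let a : Fin d ↪ k := (Fin.valEmbedding).trans (Infinite.natEmbedding k)
  let i1 : Fin (n + 1) := ⟨1, by omega⟩
  have hi : i1 ≠ 0 := fun h => by simpa [i1] using congrArg Fin.val h
  let l : Fin d → MvPolynomial (Fin (n + 1)) k := fun j => X 0 + C (a j) * X i1
  have hl : ∀ j, (l j).IsHomogeneous 1 := fun j =>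
    (isHomogeneous_X k 0).add ((isHomogeneous_X k i1).C_mul (a j))
  have hc0 : ∀ j, coeff (Finsupp.single 0 1) (l j) = 1 := fun j => by
    simp [l, coeff_C_mul, coeff_X', Finsupp.single_eq_single_iff, hi]
  have hc1 : ∀ j, coeff (Finsupp.single i1 1) (l j) = a j := fun j => by
    simp [l, coeff_C_mul, coeff_X', Finsupp.single_eq_single_iff, hi.symm]
  have hne : ∀ j, l j ≠ 0 := fun j h => one_ne_zero (α := k) (by rw [← hc0 j, h, coeff_zero])
  have hprod : (∏ j, l j).IsHomogeneous d := by
    have := IsHomogeneous.prod Finset.univ l (fun _ => 1) fun j _ => hl j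
    simpa using this
  refine ⟨⟨∏ j, l j, (mem_homogeneousSubmodule d _).mpr hprod⟩, ?_⟩
  change Squarefree (∏ j, l j)
  refine Finset.squarefree_prod_of_pairwise_isCoprime (fun i _ j _ hij => ?_)
    fun j _ => (irreducible_linear (hl j) (hne j)).squarefree
  refine ((irreducible_linear (hl i) (hne i)).isRelPrime_iff_not_dvd).mpr fun hdvd => hij (a.injective ?_)
  obtain ⟨u, hu⟩ := (irreducible_linear (hl i) (hne i)).associated_of_dvd (irreducible_linear (hl j) (hne j)) hdvd
  obtain ⟨r, -, hr⟩ := MvPolynomial.isUnit_iff_eq_C_of_isReduced.mp u.isUnit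
  rw [hr, mul_comm] at hu
  have h0 := congrArg (coeff (Finsupp.single 0 1)) hu
  have h1 := congrArg (coeff (Finsupp.single i1 1)) hu
  rw [coeff_C_mul, hc0, hc0, mul_one] at h0
  rw [coeff_C_mul, hc1, hc1, h0, one_mul] at h1
  exact h1

/-- In degree one squarefree means nonzero. -/
theorem squarefree_deg_one {F : MvPolynomial σ k} (hF : F.IsHomogeneous 1) :
    Squarefree F ↔ F ≠ 0 :=
  ⟨fun h => h.ne_zero, fun h => (irreducible_linear hF h).squarefree⟩

theorem isZOpen_squarefree_one (n : ℕ) : LefPen.IsZOpen k {F : LefPen.Form n k 1 | Squarefree F.1} := by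
  intro F hF
  obtain ⟨m, hm⟩ := exists_coeff_ne_zero ((squarefree_deg_one ((mem_homogeneousSubmodule 1 _).mp F.2)).mp hF)
  refine ⟨fun G => coeff m G.1,
    Algebra.subset_adjoin ⟨(lcoeff k m).comp (Submodule.subtype _), rfl⟩, hm,
    fun G hG => (squarefree_deg_one ((mem_homogeneousSubmodule 1 _).mp G.2)).mpr fun h => hG ?_⟩
  change coeff m G.1 = 0
  rw [h, coeff_zero]

end Groth.Agent.SqfreeForms
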